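import Mathlib
import Cfsg.Agent.LieClassical.SympCenter
import Cfsg.Agent.LieClassical.SUBasic
import Cfsg.Agent.LieClassical.OrthCenter
import Cfsg.Agent.LieClassical.OmegaReindex
import Cfsg.Agent.FastGrp
import Cfsg.Agent.Prune
set_option linter.all false
prune_inst 0x7f00000000000000000000000000000000000000000000000000000000000000000000000000000000000000000000000000000000000000000000000000000000000000000000000000000000000000003fffffffffffffffffffffffffffbeffbdffffffff
open scoped Cfsg.Agent.FastGrp

-- part: H349/ExtraRep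
section
/-!
# Linear and projective representations of extraspecial 2-groups (helper349)

* `card_le_sq` : if the operators `ρ x` of a group commute up to scalars, then operators with different characters are
  linearly independent; so there are at most `(dim M)²` characters;
* `ES Q z` : `Q` is a group with centre `{1, z}`, `z² = 1` and all commutators in `{1, z}`;
* `ES.card_le` : in characteristic `≠ 2`, a representation of `Q` of degree `n` with `ρ z ≠ 1` has `|Q| ≤ 2 n²`;
* `ES.card_le_proj` : if `Q` acts on a matrix algebra `M_n(k)` by conjugation with elements of a group `R` mapping onto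
  `Q`, then `|Q| ≤ 2 n⁴`.
-/

set_option autoImplicit false

namespace Cfsg.Agent.H349.ExtraRep

open Module

/-- Operators commuting up to scalars with different characters are linearly independent. -/
theorem card_le_sq {k M P ι : Type*} [Field k] [AddCommGroup M] [Module k M] [FiniteDimensional k M] [Group P]
    [Fintype ι] [Nontrivial M] (ρ : P →* Module.End k M) (χ : ι → P →* k) (x : ι → P)
    (hc : ∀ i g, ρ g * ρ (x i) = χ i g • (ρ (x i) * ρ g)) (hχ : Function.Injective χ) :
    Fintype.card ι ≤ (finrank k M) ^ 2 := by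
  have hli : LinearIndependent k (fun i => ρ (x i)) := by
    rw [Fintype.linearIndependent_iff]
    intro a ha
    have hd := linearIndependent_monoidHom P k
    have hd' : LinearIndependent k (fun i => (χ i : P → k)) :=
      hd.comp χ hχ
    -- conjugate by `g`
    have h1 : ∀ g : P, ∑ i, (a i * χ i g) • ρ (x i) = 0 := by
      intro g
      have h2 : (∑ i, (a i * χ i g) • ρ (x i)) * ρ g = 0 := by
        have h3 : (∑ i, (a i * χ i g) • ρ (x i)) * ρ g = ρ g * ∑ i, a i • ρ (x i) := by
          rw [Finset.sum_mul, Finset.mul_sum]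
          refine Finset.sum_congr rfl fun i _ => ?_
          rw [smul_mul_assoc, mul_smul_comm, hc i g, smul_smul]
        rw [h3, ha, mul_zero]
      have h4 : (∑ i, (a i * χ i g) • ρ (x i)) * ρ g * ρ g⁻¹ = 0 := by rw [h2, zero_mul]
      rwa [mul_assoc, ← map_mul, mul_inv_cancel, map_one, mul_one] at h4
    intro i
    -- some vector is moved to a nonzero vector
    have hρ : ρ (x i) ≠ 0 := by
      intro h0
      have h5 : ρ (x i) * ρ (x i)⁻¹ = 1 := by rw [← map_mul, mul_inv_cancel, map_one]
      rw [h0, zero_mul] at h5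
      exact zero_ne_one h5
    obtain ⟨v, hv⟩ : ∃ v, ρ (x i) v ≠ 0 := by
      by_contra hcon
      push Not at hcon
      exact hρ (LinearMap.ext hcon)
    obtain ⟨f, hf⟩ : ∃ f : M →ₗ[k] k, f (ρ (x i) v) ≠ 0 := by
      by_contra hcon
      push Not at hcon
      exact hv ((Module.forall_dual_apply_eq_zero_iff k _).1 hcon)
    have h6 : ∑ i, (a i * f (ρ (x i) v)) • (χ i : P → k) = 0 := by
      funext g
      have h7 := congrArg (fun A : Module.End k M => f (A v)) (h1 g)
      simp only [LinearMap.sum_apply, LinearMap.smul_apply, map_sum, map_smul, smul_eq_mul, LinearMap.zero_apply,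
        map_zero] at h7
      rw [Finset.sum_apply, Pi.zero_apply, ← h7]
      refine Finset.sum_congr rfl fun i _ => ?_
      rw [Pi.smul_apply, smul_eq_mul]
      ring
    have h8 := Fintype.linearIndependent_iff.1 hd' _ h6 i
    exact (mul_eq_zero.1 h8).resolve_right hf
  have := hli.fintype_card_le_finrank
  rwa [Module.finrank_linearMap, ← sq] at this

/-- `Q` has centre `{1, z}`, `z² = 1`, and its commutators lie in `{1, z}`. -/
structure ES (Q : Type*) [Group Q] (z : Q) : Prop where
  ne : z ≠ 1
  sq : z * z = 1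
  zc : ∀ x : Q, x * z = z * x
  comm : ∀ x y : Q, x * y = y * x ∨ x * y = y * x * z
  cent : ∀ x : Q, (∀ y, x * y = y * x) → x = 1 ∨ x = z

namespace ES

variable {Q : Type*} [Group Q] {z : Q}

open Classical in
/-- the sign character of `x` -/
noncomputable def sg {k : Type*} [Field k] (h : ES Q z) (x : Q) : Q →* k where
  toFun g := if g * x = x * g then 1 else -1
  map_one' := by rw [if_pos (by rw [one_mul, mul_one])]
  map_mul' a b := by
    have hz := h.zc
    have hs := h.sq
    by_cases ha : a * x = x * a <;> by_cases hb : b * x = x * b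
    · rw [if_pos ha, if_pos hb, if_pos (by rw [mul_assoc, hb, ← mul_assoc, ha, mul_assoc]), mul_one]
    · have hb' := (h.comm b x).resolve_left hb
      rw [if_pos ha, if_neg hb, if_neg, one_mul]
      rw [mul_assoc, hb', ← mul_assoc, ← mul_assoc, ha]
      intro h1
      apply h.ne
      have h2 : x * a * b * z = x * a * b * 1 := by rw [h1]; group
      exact mul_left_cancel h2
    · have ha' := (h.comm a x).resolve_left ha
      rw [if_neg ha, if_pos hb, if_neg, mul_one]
      rw [mul_assoc, hb, ← mul_assoc, ha']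
      intro h1
      apply h.ne
      have h2 : x * a * b * z = x * a * b * 1 := by
        rw [mul_assoc (x * a) b z, hz b, ← mul_assoc, h1]; group
      exact mul_left_cancel h2
    · have ha' := (h.comm a x).resolve_left ha
      have hb' := (h.comm b x).resolve_left hb
      rw [if_neg ha, if_neg hb, if_pos, neg_mul_neg, one_mul]
      rw [mul_assoc, hb', ← mul_assoc, ← mul_assoc, ha', mul_assoc (x * a) z b, ← hz b, ← mul_assoc, mul_assoc _ z z,
        hs, mul_one, mul_assoc]

theorem sg_of_comm {k : Type*} [Field k] (h : ES Q z) {x g : Q} (hg : g * x = x * g) : h.sg (k := k) x g = 1 :=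
  if_pos hg

theorem sg_of_not {k : Type*} [Field k] (h : ES Q z) {x g : Q} (hg : ¬ g * x = x * g) : h.sg (k := k) x g = -1 :=
  if_neg hg

/-- the sign characters determine the elements up to `z` -/
theorem sg_inj {k : Type*} [Field k] (h2 : (2 : k) ≠ 0) (h : ES Q z) {x y : Q}
    (hxy : h.sg (k := k) x = h.sg y) : x = y ∨ x = y * z := by
  have h1 : (1 : k) ≠ -1 := by
    intro h1
    apply h2
    have : (1 : k) + 1 = 0 := by nth_rw 1 [h1]; rw [neg_add_cancel]
    rw [← one_add_one_eq_two]; exact this
  have key : ∀ g, g * (y⁻¹ * x) = y⁻¹ * x * g := by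
    intro g
    have hg := DFunLike.congr_fun hxy g
    by_cases hx : g * x = x * g
    · rw [h.sg_of_comm hx] at hg
      by_cases hy : g * y = y * g
      · have h3 : g * y⁻¹ = y⁻¹ * g := by
          rw [mul_inv_eq_iff_eq_mul, mul_assoc, hy, ← mul_assoc, inv_mul_cancel, one_mul]
        rw [← mul_assoc, h3, mul_assoc, hx, ← mul_assoc]
      · rw [h.sg_of_not hy] at hg
        exact absurd hg h1
    · rw [h.sg_of_not hx] at hg
      by_cases hy : g * y = y * g
      · rw [h.sg_of_comm hy] at hg
        exact absurd hg.symm h1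
      · have hx' := (h.comm g x).resolve_left hx
        have hy' := (h.comm g y).resolve_left hy
        have h3 : g * y⁻¹ = y⁻¹ * g * z := by
          rw [mul_inv_eq_iff_eq_mul]
          have : y⁻¹ * g * z * y = y⁻¹ * (g * y) * z := by rw [mul_assoc _ z y, ← h.zc y]; group
          rw [this, hy', mul_assoc _ _ z, mul_assoc _ z z, h.sq, mul_one, ← mul_assoc, inv_mul_cancel, one_mul]
        rw [← mul_assoc, h3, mul_assoc (y⁻¹ * g) z x, ← h.zc x, ← mul_assoc, mul_assoc y⁻¹ g x, hx', mul_assoc y⁻¹,
          mul_assoc (x * g) z z, h.sq, mul_one, ← mul_assoc]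
  rcases h.cent _ (fun g => (key g).symm) with h3 | h3
  · left
    exact (inv_mul_eq_one.1 h3).symm
  · right
    rw [← h3]; group

/-- **Linear bound.** -/
theorem card_le [Finite Q] {k V : Type*} [Field k] (h2 : (2 : k) ≠ 0) [AddCommGroup V] [Module k V]
    [FiniteDimensional k V] (h : ES Q z) (ρ : Q →* Module.End k V) (hz : ρ z ≠ 1) :
    Nat.card Q ≤ 2 * (finrank k V) ^ 2 := by
  classical
  -- the `-1`-eigenspace of `z`
  let M : Submodule k V := LinearMap.ker (ρ z + 1)
  have hM : ∀ g : Q, ∀ v ∈ M, ρ g v ∈ M := by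
    intro g v hv
    have hv' : ρ z v + v = 0 := hv
    change ρ z (ρ g v) + ρ g v = 0
    have h3 : ρ z (ρ g v) = ρ g (ρ z v) := by
      rw [← Module.End.mul_apply, ← map_mul, ← h.zc, map_mul, Module.End.mul_apply]
    rw [h3, ← map_add, hv', map_zero]
  have hMz : ∀ v ∈ M, ρ z v = -v := fun v hv => eq_neg_of_add_eq_zero_left hv
  have hnt : Nontrivial M := by
    obtain ⟨v, hv⟩ : ∃ v, ρ z v ≠ v := by
      by_contra hcon
      push Not at hcon
      exact hz (LinearMap.ext hcon)
    refine ⟨⟨⟨ρ z v - v, ?_⟩, 0, ?_⟩⟩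
    · change ρ z (ρ z v - v) + (ρ z v - v) = 0
      rw [map_sub, ← Module.End.mul_apply, ← map_mul, h.sq, map_one, Module.End.one_apply]
      abel
    · intro h0
      exact hv (sub_eq_zero.1 (congrArg Subtype.val h0))
  let ρ' : Q →* Module.End k M :=
    { toFun := fun g => (ρ g).restrict (hM g)
      map_one' := by
        ext v
        simp only [LinearMap.restrict_apply, _root_.map_one, _root_.Module.End.one_apply, _root_.Subtype.coe_eta]
      map_mul' := by
        intro a b
        ext v
        simp only [LinearMap.restrict_apply, _root_.map_mul, _root_.Module.End.mul_apply] }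
  have hρ' : ∀ g (v : M), ((ρ' g v : M) : V) = ρ g v := fun g v => rfl
  let S : Subgroup Q := Subgroup.zpowers z
  have hSm : ∀ x, x ∈ S ↔ x = 1 ∨ x = z := by
    intro x
    constructor
    · rintro ⟨n, rfl⟩
      rcases Int.even_or_odd' n with ⟨m, rfl | rfl⟩
      · left
        change z ^ (2 * m) = 1
        rw [zpow_mul, zpow_two, h.sq, one_zpow]
      · right
        change z ^ (2 * m + 1) = z
        rw [zpow_add, zpow_mul, zpow_two, h.sq, one_zpow, one_mul, zpow_one]
    · rintro (rfl | rfl)
      · exact one_mem _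
      · exact Subgroup.mem_zpowers _
  have hScard : Nat.card S = 2 := by
    rw [Nat.card_zpowers]
    have : Fact (Nat.Prime 2) := ⟨Nat.prime_two⟩
    exact orderOf_eq_prime (by rw [pow_two]; exact h.sq) h.ne
  have : Fintype (Q ⧸ S) := Fintype.ofFinite _
  have h5 := card_le_sq (k := k) (M := M) (ι := Q ⧸ S) ρ' (fun i => h.sg i.out) (fun i => i.out) (by
    intro i g
    ext v
    by_cases hc : g * i.out = i.out * g
    · rw [h.sg_of_comm hc, one_smul, ← map_mul, ← map_mul, hc]
    · have hc' := (h.comm g i.out).resolve_left hc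
      rw [h.sg_of_not hc, ← map_mul, ← map_mul, hc', LinearMap.smul_apply, Submodule.coe_smul, hρ', hρ']
      rw [map_mul, Module.End.mul_apply, hMz v v.2, map_neg, neg_smul, one_smul]) (by
    intro i j hij
    rcases h.sg_inj h2 hij with h6 | h6
    · rw [← QuotientGroup.out_eq' i, ← QuotientGroup.out_eq' j]
      exact congrArg _ h6
    · rw [← QuotientGroup.out_eq' i, ← QuotientGroup.out_eq' j, eq_comm, QuotientGroup.eq, hSm, h6]
      right
      group)
  have h6 : finrank k M ≤ finrank k V := Submodule.finrank_le M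
  rw [← Subgroup.card_mul_index S, hScard]
  have h7 : S.index = Fintype.card (Q ⧸ S) := by
    rw [Subgroup.index, Nat.card_eq_fintype_card]
  rw [h7]
  calc 2 * Fintype.card (Q ⧸ S) ≤ 2 * (finrank k M) ^ 2 := Nat.mul_le_mul_left 2 h5
    _ ≤ 2 * (finrank k V) ^ 2 := Nat.mul_le_mul_left 2 (Nat.pow_le_pow_left h6 2)

/-- **Projective bound.** -/
theorem card_le_proj [Finite Q] {k ι R : Type*} [Field k] (h2 : (2 : k) ≠ 0) [Fintype ι] [DecidableEq ι] [Group R]
    (h : ES Q z) (π : R →* Q) (hπ : Function.Surjective π) (ρ : R →* Matrix ι ι k)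
    (hker : ∀ r, π r = 1 → ∃ c : k, ρ r = Matrix.scalar ι c)
    (hz : ∀ r, π r = z → ∀ c : k, ρ r ≠ Matrix.scalar ι c) :
    Nat.card Q ≤ 2 * (Fintype.card ι) ^ 4 := by
  let Ad : R →* Module.End k (Matrix ι ι k) :=
    { toFun := fun r =>
        { toFun := fun A => ρ r * A * ρ r⁻¹
          map_add' := fun A B => by rw [mul_add, add_mul]
          map_smul' := fun c A => by simp only [_root_.Algebra.mul_smul_comm, _root_.Algebra.smul_mul_assoc, _root_.RingHom.id_apply] }
      map_one' := by
        ext A
        simp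
      map_mul' := by
        intro a b
        apply LinearMap.ext
        intro A
        change ρ (a * b) * A * ρ (a * b)⁻¹ = ρ a * (ρ b * A * ρ b⁻¹) * ρ a⁻¹
        rw [mul_inv_rev, map_mul, map_mul]
        simp only [mul_assoc] }
  have hAd : ∀ r A, Ad r A = ρ r * A * ρ r⁻¹ := fun r A => rfl
  have hinv : ∀ r, ρ r * ρ r⁻¹ = 1 := fun r => by rw [← map_mul, mul_inv_cancel, map_one]
  have hk : π.ker ≤ Ad.ker := by
    intro r hr
    rw [MonoidHom.mem_ker] at hr ⊢
    obtain ⟨c, hc⟩ := hker r hr
    apply LinearMap.ext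
    intro A
    rw [hAd, hc, (Matrix.scalar_commute c (fun _ => Commute.all _ _) A).eq, mul_assoc, ← hc, hinv, mul_one]
    rfl
  let e := QuotientGroup.quotientKerEquivOfSurjective π hπ
  let Ad' : Q →* Module.End k (Matrix ι ι k) := (QuotientGroup.lift π.ker Ad hk).comp e.symm.toMonoidHom
  have hAd' : ∀ r, Ad' (π r) = Ad r := by
    intro r
    have : e.symm (π r) = QuotientGroup.mk r := by
      rw [MulEquiv.symm_apply_eq]
      rfl
    change QuotientGroup.lift π.ker Ad hk (e.symm (π r)) = Ad r
    rw [this]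
    rfl
  obtain ⟨r, hr⟩ := hπ z
  have h3 := h.card_le h2 Ad' (by
    rw [← hr, hAd']
    intro h4
    have h5 : ∀ A, ρ r * A = A * ρ r := by
      intro A
      have h6 : Ad r A = A := by rw [h4]; rfl
      rw [hAd] at h6
      have h7 : ρ r * A * ρ r⁻¹ * ρ r = A * ρ r := by rw [h6]
      rwa [mul_assoc, ← map_mul, inv_mul_cancel, map_one, mul_one] at h7
    have h8 : ρ r ∈ Set.range (Matrix.scalar ι (α := k)) := by
      rw [Matrix.mem_range_scalar_iff_commute_single']
      intro i j
      exact (h5 _).symm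
    obtain ⟨c, hc⟩ := h8
    exact hz r hr c hc.symm)
  rw [Module.finrank_matrix, Module.finrank_self, mul_one, ← pow_two, ← pow_mul] at h3
  exact h3

end ES

end Cfsg.Agent.H349.ExtraRep
end

-- part: H349/ESBound
section
/-!
# Degrees of classical groups in odd characteristic containing extraspecial 2-groups (helper349)

`HasES N X` : `X` has a subgroup of order `N` with centre `{1, z}`, `z² = 1`, and commutators in `{1, z}`.  If `X` is
one of the classical groups in odd characteristic, then `N ≤ 2 n ^ 4` for the degree `n`; if `X` is a linear group of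
degree `n`, then `N ≤ 2 n ^ 2`.
-/

set_option autoImplicit false

namespace Cfsg.Agent.H349.ESBound

open Cfsg Cfsg.Agent.H349.ExtraRep

/-- `X` has a subgroup of order `N` with centre `{1, z}`, `z² = 1`, and commutators in `{1, z}` -/
def HasES (N : ℕ) (X : Type*) [Group X] : Prop := ∃ (Q : Subgroup X) (z : Q), ES Q z ∧ Nat.card Q = N

theorem es_congr {Q R : Type*} [Group Q] [Group R] {z : Q} (h : ES Q z) (e : Q ≃* R) : ES R (e z) where
  ne := fun h1 => h.ne (e.injective (h1.trans (map_one e).symm))
  sq := by rw [← map_mul, h.sq, map_one]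
  zc := fun x => by
    have := congrArg e (h.zc (e.symm x))
    simpa only [_root_.map_mul, _root_.MulEquiv.apply_symm_apply] using this
  comm := fun x y => by
    rcases h.comm (e.symm x) (e.symm y) with h1 | h1
    · left; simpa using congrArg e h1
    · right; simpa only [_root_.map_mul, _root_.MulEquiv.apply_symm_apply] using congrArg e h1
  cent := fun x hx => by
    rcases h.cent (e.symm x) (fun y => by
      apply e.injective
      rw [map_mul, map_mul, e.apply_symm_apply]
      exact hx (e y)) with h1 | h1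
    · left; rw [← e.apply_symm_apply x, h1, map_one]
    · right; rw [← e.apply_symm_apply x, h1]

theorem HasES.congr {N : ℕ} {X Y : Type*} [Group X] [Group Y] (e : X ≃* Y) (h : HasES N X) : HasES N Y := by
  obtain ⟨Q, z, hz, hc⟩ := h
  refine ⟨Q.map e.toMonoidHom, (Q.equivMapOfInjective e.toMonoidHom e.injective) z, es_congr hz _, ?_⟩
  rw [← hc]
  exact Nat.card_congr (Q.equivMapOfInjective e.toMonoidHom e.injective).toEquiv.symm

variable {k : Type*} [Field k] {ι : Type*} [Fintype ι] [DecidableEq ι]

/-- linear groups -/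
theorem HasES.linV {N : ℕ} (hN : N ≠ 0) {X : Type*} [Group X] (h : HasES N X) (h2 : (2 : k) ≠ 0) {V : Type*}
    [AddCommGroup V] [Module k V] [FiniteDimensional k V] (φ : X →* Module.End k V) (hφ : Function.Injective φ) :
    N ≤ 2 * (Module.finrank k V) ^ 2 := by
  obtain ⟨Q, z, hz, hc⟩ := h
  have hfin : Finite Q := Nat.finite_of_card_ne_zero (by rw [hc]; exact hN)
  have h1 := hz.card_le (k := k) (V := V) h2 (φ.comp Q.subtype) (by
      intro h1
      apply hz.ne
      apply Subtype.ext
      apply hφ
      rw [OneMemClass.coe_one, map_one]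
      exact h1)
  rwa [hc] at h1

/-- matrix groups -/
theorem HasES.lin {N : ℕ} (hN : N ≠ 0) {X : Type*} [Group X] (h : HasES N X) (h2 : (2 : k) ≠ 0)
    (φ : X →* Matrix ι ι k) (hφ : Function.Injective φ) : N ≤ 2 * (Fintype.card ι) ^ 2 := by
  have h1 := h.linV (k := k) (V := ι → k) hN h2
    (((Matrix.toLinAlgEquiv' (R := k) (n := ι)).toAlgHom : Matrix ι ι k →* Module.End k (ι → k)).comp φ) (by
      intro a b hab
      exact hφ ((Matrix.toLinAlgEquiv' (R := k) (n := ι)).injective hab))
  rwa [Module.finrank_fintype_fun_eq_card] at h1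

/-- projective groups -/
theorem HasES.proj {N : ℕ} (hN : N ≠ 0) {M : Type*} [Group M] (h : HasES N (M ⧸ Subgroup.center M))
    (h2 : (2 : k) ≠ 0) (φ : M →* Matrix ι ι k) (hφ : Function.Injective φ)
    (hc : ∀ m ∈ Subgroup.center M, ∃ c, φ m = Matrix.scalar ι c) : N ≤ 2 * (Fintype.card ι) ^ 4 := by
  obtain ⟨Q, z, hz, hcard⟩ := h
  have hfin : Finite Q := Nat.finite_of_card_ne_zero (by rw [hcard]; exact hN)
  let R : Subgroup M := Q.comap (QuotientGroup.mk' (Subgroup.center M))
  let π : R →* Q :=
    { toFun := fun r => ⟨QuotientGroup.mk' (Subgroup.center M) r, r.2⟩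
      map_one' := Subtype.ext (map_one _)
      map_mul' := fun a b => Subtype.ext (map_mul _ _ _) }
  have hπ : Function.Surjective π := by
    rintro ⟨y, hy⟩
    obtain ⟨m, rfl⟩ := QuotientGroup.mk'_surjective (Subgroup.center M) y
    exact ⟨⟨m, hy⟩, rfl⟩
  have h1 := hz.card_le_proj (k := k) h2 π hπ (φ.comp R.subtype) (by
    intro r hr
    apply hc
    have h3 : (QuotientGroup.mk' (Subgroup.center M)) r = 1 := congrArg Subtype.val hr
    exact (QuotientGroup.eq_one_iff _).1 h3) (by
    intro r hr c hcr
    apply hz.ne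
    rw [← hr]
    apply Subtype.ext
    show (QuotientGroup.mk' (Subgroup.center M)) r = 1
    refine (QuotientGroup.eq_one_iff _).2 ?_
    rw [Subgroup.mem_center_iff]
    intro g
    apply hφ
    have h4 : φ r = Matrix.scalar ι c := hcr
    rw [map_mul, map_mul, h4]
    exact (Matrix.scalar_commute c (fun _ => Commute.all _ _) (φ g)).symm.eq)
  rwa [hcard] at h1

/-! ### the classical families -/

section

variable {F : Type*} [Field F] {N : ℕ} {X : Type*} [Group X]

theorem psl (hN : N ≠ 0) (h2 : (2 : F) ≠ 0) {n : ℕ} (h : HasES N X)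
    (e : X ≃* Matrix.ProjectiveSpecialLinearGroup (Fin n) F) : N ≤ 2 * n ^ 4 := by
  have h1 := (h.congr e).proj (k := F) (ι := Fin n) hN h2
    ((Units.coeHom (Matrix (Fin n) (Fin n) F)).comp Matrix.SpecialLinearGroup.toGL) (by
      intro a b hab
      exact Subtype.ext hab) (by
      intro m hm
      obtain ⟨r, -, hr⟩ := Matrix.SpecialLinearGroup.mem_center_iff.1 hm
      exact ⟨r, hr.symm⟩)
  rwa [Fintype.card_fin] at h1

theorem psp (hN : N ≠ 0) (h2 : (2 : F) ≠ 0) {m : ℕ} (h : HasES N X) (e : X ≃* PSp m F) :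
    N ≤ 2 * (m + m) ^ 4 := by
  have h1 := (h.congr e).proj (k := F) (ι := Fin m ⊕ Fin m) hN h2
    (Submonoid.subtype (Matrix.symplecticGroup (Fin m) F)) Subtype.val_injective (by
      intro A hA
      obtain ⟨a, ha⟩ := (LieClassical.SympCenter.mem_center_iff m A).1 hA
      refine ⟨a, ?_⟩
      show A.1 = _
      rw [ha, Matrix.scalar_apply, ← Matrix.diagonal_one, ← Matrix.diagonal_smul]
      congr 1
      funext i
      simp)
  rwa [Fintype.card_sum, Fintype.card_fin] at h1

theorem psu [Fintype F] (hN : N ≠ 0) (h2 : (2 : F) ≠ 0) {n q : ℕ} (hF : Fintype.card F = q ^ 2) (hn : 3 ≤ n)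
    (h : HasES N X) (e : X ≃* PSU n F q) : N ≤ 2 * n ^ 4 := by
  have h1 := (h.congr e).proj (k := F) (ι := Fin n) hN h2
    ((slToMat n F).comp (SU n F q).subtype) (by
      intro a b hab
      exact Subtype.ext (Subtype.ext hab)) (by
      intro m hm
      obtain ⟨c, h3, h4, rfl⟩ := (LieClassical.SUBasic.mem_center_SU_iff hF hn m).1 hm
      exact ⟨c, rfl⟩)
  rwa [Fintype.card_fin] at h1

theorem omega_inj {κ : Type} [Fintype κ] [DecidableEq κ] (Q : (κ → F) → F) :
    Function.Injective (((Units.coeHom (Matrix κ κ F)).comp (isometryGroup F Q).subtype).comp (Omega F Q).subtype) := by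
  intro a b hab
  exact Subtype.ext (Subtype.ext (Units.ext hab))

theorem scalar_of {κ : Type} [Fintype κ] [DecidableEq κ] {A : Matrix κ κ F} (h : A = 1 ∨ A = -1) :
    ∃ c, A = Matrix.scalar κ c := by
  rcases h with rfl | rfl
  · exact ⟨1, (map_one _).symm⟩
  · exact ⟨-1, by rw [map_neg, map_one]⟩

theorem oodd (hN : N ≠ 0) (h2 : (2 : F) ≠ 0) {m : ℕ} (hm : 1 ≤ m) (h : HasES N X)
    (e : X ≃* POmega F (quadFormOdd m F)) : N ≤ 2 * (1 + (m + m)) ^ 4 := by
  rw [← LieClassical.OmegaReindex.coe_quadOdd] at e
  have h1 := (h.congr e).proj (k := F) (ι := Unit ⊕ (Fin m ⊕ Fin m)) hN h2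
    (((Units.coeHom (Matrix _ _ F)).comp (isometryGroup F _).subtype).comp (Omega F _).subtype) (omega_inj _) (by
      intro x hx
      exact scalar_of ((LieClassical.OrthCenter.mem_center_omega_iff
        (LieClassical.OmegaReindex.quadOdd_nondegenerate h2)
        (by simp only [Fintype.card_sum, Fintype.card_fin, Fintype.card_unit]; omega)
        (LieClassical.OmegaReindex.quadOdd_isotropic hm) x).1 hx))
  simpa only [Fintype.card_sum, Fintype.card_fin, Fintype.card_unit] using h1

theorem oplus (hN : N ≠ 0) (h2 : (2 : F) ≠ 0) {m : ℕ} (hm : 2 ≤ m) (h : HasES N X)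
    (e : X ≃* POmega F (quadFormPlus m F)) : N ≤ 2 * (m + m) ^ 4 := by
  rw [← LieClassical.OmegaReindex.coe_quadPlus] at e
  have h1 := (h.congr e).proj (k := F) (ι := Fin m ⊕ Fin m) hN h2
    (((Units.coeHom (Matrix _ _ F)).comp (isometryGroup F _).subtype).comp (Omega F _).subtype) (omega_inj _) (by
      intro x hx
      exact scalar_of ((LieClassical.OrthCenter.mem_center_omega_iff
        LieClassical.OmegaReindex.quadPlus_nondegenerate
        (by simp only [Fintype.card_sum, Fintype.card_fin]; omega)
        (LieClassical.OmegaReindex.quadPlus_isotropic (by omega)) x).1 hx))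
  simpa only [Fintype.card_sum, Fintype.card_fin, Fintype.card_unit] using h1

theorem ominus [Finite F] (hN : N ≠ 0) (h2 : (2 : F) ≠ 0) {m : ℕ} (hm : 1 ≤ m) {a b : F}
    (hab : ∀ z₁ z₂ : F, z₁ ^ 2 + a * z₁ * z₂ + b * z₂ ^ 2 = 0 → z₁ = 0 ∧ z₂ = 0) (h : HasES N X)
    (e : X ≃* POmega F (quadFormMinus m F a b)) : N ≤ 2 * (m + m + 2) ^ 4 := by
  rw [← LieClassical.OmegaReindex.coe_quadMinus] at e
  have h1 := (h.congr e).proj (k := F) (ι := (Fin m ⊕ Fin m) ⊕ Fin 2) hN h2
    (((Units.coeHom (Matrix _ _ F)).comp (isometryGroup F _).subtype).comp (Omega F _).subtype) (omega_inj _) (by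
      intro x hx
      exact scalar_of ((LieClassical.OrthCenter.mem_center_omega_iff
        (LieClassical.OmegaReindex.quadMinus_nondegenerate hab)
        (by simp only [Fintype.card_sum, Fintype.card_fin]; omega)
        (LieClassical.OmegaReindex.quadMinus_isotropic hm a b) x).1 hx))
  simpa only [Fintype.card_sum, Fintype.card_fin, Fintype.card_unit] using h1

end

/-- subgroups of general linear groups (the exceptional groups) -/
theorem gl {F : Type*} [Field F] {N : ℕ} {X : Type*} [Group X] (hN : N ≠ 0) (h2 : (2 : F) ≠ 0) {κ : Type*}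
    [Fintype κ] [DecidableEq κ] {H : Subgroup (Matrix.GeneralLinearGroup κ F)} (h : HasES N X) (e : X ≃* H) :
    N ≤ 2 * (Fintype.card κ) ^ 2 :=
  h.lin (k := F) hN h2 (((Units.coeHom (Matrix κ κ F)).comp H.subtype).comp e.toMonoidHom) (by
    intro a b hab
    exact e.injective (Subtype.ext (Units.ext hab)))

/-- the permutation representation -/
def permRep (n : ℕ) : Equiv.Perm (Fin n) →* Module.End ℚ (Fin n → ℚ) where
  toFun σ := LinearMap.funLeft ℚ ℚ ⇑σ⁻¹
  map_one' := by ext; simp only [LinearMap.funLeft, _root_.inv_one, _root_.Equiv.Perm.coe_one, _root_.CompTriple.comp_eq, _root_.LinearMap.coe_comp, _root_.LinearMap.coe_mk, _root_.AddHom.coe_mk, _root_.LinearMap.coe_single, _root_.Function.comp_apply, _root_.Module.End.one_apply]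
  map_mul' σ τ := by
    ext
    simp only [LinearMap.funLeft, _root_.mul_inv_rev, _root_.Equiv.Perm.coe_mul, _root_.Equiv.Perm.coe_inv, _root_.LinearMap.coe_comp, _root_.LinearMap.coe_mk, _root_.AddHom.coe_mk, _root_.LinearMap.coe_single, _root_.Function.comp_apply, _root_.Module.End.mul_apply]

/-- alternating groups -/
theorem alt {N : ℕ} {X : Type*} [Group X] (hN : N ≠ 0) {n : ℕ} (h : HasES N X)
    (e : X ≃* alternatingGroup (Fin n)) : N ≤ 2 * n ^ 2 := by
  have h1 := (h.congr e).linV (k := ℚ) (V := Fin n → ℚ) hN (by norm_num)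
    ((permRep n).comp (alternatingGroup (Fin n)).subtype) (by
      intro a b hab
      apply Subtype.ext
      apply inv_injective
      ext i
      by_contra hne
      have h1 : (permRep n (a : Equiv.Perm (Fin n))) (Pi.single (((b : Equiv.Perm (Fin n))⁻¹) i) 1) i =
          (permRep n (b : Equiv.Perm (Fin n))) (Pi.single (((b : Equiv.Perm (Fin n))⁻¹) i) 1) i := by
        have h2 : (permRep n (a : Equiv.Perm (Fin n))) = (permRep n (b : Equiv.Perm (Fin n))) := hab
        rw [h2]
      change (Pi.single (((b : Equiv.Perm (Fin n))⁻¹) i) (1 : ℚ) : Fin n → ℚ) (((a : Equiv.Perm (Fin n))⁻¹) i) =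
        (Pi.single (((b : Equiv.Perm (Fin n))⁻¹) i) (1 : ℚ) : Fin n → ℚ) (((b : Equiv.Perm (Fin n))⁻¹) i) at h1
      rw [Pi.single_eq_same, Pi.single_eq_of_ne (fun h => hne (congrArg Fin.val h))] at h1
      exact zero_ne_one h1)
  rwa [Module.finrank_fintype_fun_eq_card, Fintype.card_fin] at h1

end Cfsg.Agent.H349.ESBound
end
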